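import Cfsg.Agent.E8A.C65.Cert

/-!
# `A₆` in characteristic 5: `f(D₁₀) + f(3² : 4) ≤ f(D₈)` for modules without fixed vectors (helper8)
-/

set_option autoImplicit false
set_option maxRecDepth 100000

namespace Cfsg.Agent.E8A.C65

open Module
open Cfsg.Agent.R2.T1.Odd Cfsg.Agent.R2.T1.Art

def gs : List (List (ℕ × ℕ)) :=
  [[(0, 1), (1, 2), (2, 3), (3, 4)], [(3, 4), (4, 5)], [(0, 1), (1, 2), (2, 3), (4, 5)], [(0, 2), (4, 5)]]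

def gG : List (List (ℕ × ℕ)) :=
  [[(0, 1), (1, 2), (2, 3), (3, 4)], [(3, 4), (4, 5)]]

def eG : List (List ℕ) :=
  [[], [0], [1], [0, 0], [1, 0], [0, 1], [1, 1], [0, 0, 0], [1, 0, 0], [0, 1, 0], [1, 1, 0], [0, 0, 1], [1, 0, 1],
   [0, 1, 1], [0, 0, 0, 0], [1, 0, 0, 0], [0, 1, 0, 0], [1, 1, 0, 0], [0, 0, 1, 0], [1, 0, 1, 0], [0, 1, 1, 0], [0,
   0, 0, 1], [1, 0, 0, 1], [0, 1, 0, 1], [1, 1, 0, 1], [0, 0, 1, 1], [1, 0, 1, 1], [1, 0, 0, 0, 0], [0, 1, 0, 0, 0],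
   [1, 1, 0, 0, 0], [0, 0, 1, 0, 0], [1, 0, 1, 0, 0], [0, 1, 1, 0, 0], [0, 0, 0, 1, 0], [1, 0, 0, 1, 0], [0, 1, 0,
   1, 0], [1, 1, 0, 1, 0], [0, 0, 1, 1, 0], [1, 0, 1, 1, 0], [0, 0, 0, 0, 1], [1, 0, 0, 0, 1], [0, 1, 0, 0, 1], [1,
   1, 0, 0, 1], [0, 0, 1, 0, 1], [1, 0, 1, 0, 1], [0, 1, 1, 0, 1], [0, 0, 0, 1, 1], [1, 0, 0, 1, 1], [0, 1, 0, 1,
   1], [1, 1, 0, 1, 1], [0, 1, 0, 0, 0, 0], [1, 1, 0, 0, 0, 0], [0, 0, 1, 0, 0, 0], [1, 0, 1, 0, 0, 0], [0, 1, 1, 0,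
   0, 0], [0, 0, 0, 1, 0, 0], [1, 0, 0, 1, 0, 0], [0, 1, 0, 1, 0, 0], [1, 1, 0, 1, 0, 0], [1, 0, 1, 1, 0, 0], [0, 0,
   0, 0, 1, 0], [1, 0, 0, 0, 1, 0], [0, 1, 0, 0, 1, 0], [1, 1, 0, 0, 1, 0], [0, 0, 1, 0, 1, 0], [1, 0, 1, 0, 1, 0],
   [0, 1, 1, 0, 1, 0], [0, 0, 0, 1, 1, 0], [1, 0, 0, 1, 1, 0], [0, 1, 0, 1, 1, 0], [1, 1, 0, 1, 1, 0], [1, 0, 0, 0,
   0, 1], [0, 1, 0, 0, 0, 1], [1, 1, 0, 0, 0, 1], [0, 0, 1, 0, 0, 1], [1, 0, 1, 0, 0, 1], [0, 1, 1, 0, 0, 1], [0, 0,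
   0, 1, 0, 1], [1, 0, 0, 1, 0, 1], [1, 1, 0, 1, 0, 1], [0, 0, 1, 1, 0, 1], [1, 0, 1, 1, 0, 1], [1, 0, 0, 0, 1, 1],
   [0, 1, 0, 0, 1, 1], [1, 1, 0, 0, 1, 1], [0, 0, 1, 0, 1, 1], [1, 0, 1, 0, 1, 1], [0, 1, 1, 0, 1, 1], [0, 0, 1, 0,
   0, 0, 0], [1, 0, 1, 0, 0, 0, 0], [0, 1, 1, 0, 0, 0, 0], [1, 0, 0, 1, 0, 0, 0], [0, 1, 0, 1, 0, 0, 0], [1, 1, 0,
   1, 0, 0, 0], [1, 0, 1, 1, 0, 0, 0], [0, 0, 0, 0, 1, 0, 0], [1, 0, 0, 0, 1, 0, 0], [0, 1, 0, 0, 1, 0, 0], [1, 1,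
   0, 0, 1, 0, 0], [0, 0, 1, 0, 1, 0, 0], [1, 0, 1, 0, 1, 0, 0], [0, 1, 1, 0, 1, 0, 0], [0, 1, 0, 1, 1, 0, 0], [1,
   1, 0, 1, 1, 0, 0], [1, 0, 0, 0, 0, 1, 0], [0, 1, 0, 0, 0, 1, 0], [1, 1, 0, 0, 0, 1, 0], [0, 0, 1, 0, 0, 1, 0],
   [1, 0, 1, 0, 0, 1, 0], [0, 1, 1, 0, 0, 1, 0], [0, 0, 0, 1, 0, 1, 0], [1, 0, 0, 1, 0, 1, 0], [1, 1, 0, 1, 0, 1,
   0], [0, 0, 1, 1, 0, 1, 0], [1, 0, 1, 1, 0, 1, 0], [1, 0, 0, 0, 1, 1, 0], [0, 1, 0, 0, 1, 1, 0], [1, 1, 0, 0, 1,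
   1, 0], [0, 0, 1, 0, 1, 1, 0], [1, 0, 1, 0, 1, 1, 0], [0, 1, 1, 0, 1, 1, 0], [1, 1, 0, 0, 0, 0, 1], [0, 0, 1, 0,
   0, 0, 1], [1, 0, 1, 0, 0, 0, 1], [0, 1, 1, 0, 0, 0, 1], [0, 0, 0, 1, 0, 0, 1], [1, 1, 0, 1, 0, 0, 1], [1, 0, 1,
   1, 0, 0, 1], [0, 0, 0, 0, 1, 0, 1], [1, 0, 0, 0, 1, 0, 1], [0, 1, 0, 0, 1, 0, 1], [1, 1, 0, 0, 1, 0, 1], [1, 0,
   0, 1, 1, 0, 1], [0, 1, 0, 1, 1, 0, 1], [1, 1, 0, 1, 1, 0, 1], [0, 1, 0, 0, 0, 1, 1], [1, 1, 0, 0, 0, 1, 1], [0,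
   0, 1, 0, 0, 1, 1], [1, 0, 1, 0, 0, 1, 1], [0, 1, 1, 0, 0, 1, 1], [0, 0, 0, 1, 0, 1, 1], [1, 0, 0, 1, 0, 1, 1],
   [1, 1, 0, 1, 0, 1, 1], [0, 0, 1, 1, 0, 1, 1], [1, 0, 1, 1, 0, 1, 1], [1, 0, 0, 1, 0, 0, 0, 0], [0, 1, 0, 1, 0, 0,
   0, 0], [1, 1, 0, 1, 0, 0, 0, 0], [1, 0, 1, 1, 0, 0, 0, 0], [1, 1, 0, 0, 1, 0, 0, 0], [0, 0, 1, 0, 1, 0, 0, 0],
   [0, 1, 1, 0, 1, 0, 0, 0], [0, 1, 0, 1, 1, 0, 0, 0], [1, 1, 0, 1, 1, 0, 0, 0], [1, 0, 0, 0, 0, 1, 0, 0], [0, 1, 0,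
   0, 0, 1, 0, 0], [1, 1, 0, 0, 0, 1, 0, 0], [1, 0, 1, 0, 0, 1, 0, 0], [0, 1, 1, 0, 0, 1, 0, 0], [0, 0, 0, 1, 0, 1,
   0, 0], [1, 0, 0, 1, 0, 1, 0, 0], [1, 1, 0, 1, 0, 1, 0, 0], [0, 0, 1, 1, 0, 1, 0, 0], [1, 0, 1, 1, 0, 1, 0, 0],
   [0, 0, 1, 0, 1, 1, 0, 0], [1, 0, 1, 0, 1, 1, 0, 0], [1, 1, 0, 0, 0, 0, 1, 0], [0, 0, 1, 0, 0, 0, 1, 0], [1, 0, 1,
   0, 0, 0, 1, 0], [0, 1, 1, 0, 0, 0, 1, 0], [1, 1, 0, 1, 0, 0, 1, 0], [1, 0, 1, 1, 0, 0, 1, 0], [0, 0, 0, 0, 1, 0,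
   1, 0], [1, 0, 0, 0, 1, 0, 1, 0], [0, 1, 0, 0, 1, 0, 1, 0], [1, 1, 0, 0, 1, 0, 1, 0], [1, 0, 0, 1, 1, 0, 1, 0],
   [0, 1, 0, 1, 1, 0, 1, 0], [1, 1, 0, 1, 1, 0, 1, 0], [0, 1, 0, 0, 0, 1, 1, 0], [1, 1, 0, 0, 0, 1, 1, 0], [0, 0, 1,
   0, 0, 1, 1, 0], [1, 0, 1, 0, 0, 1, 1, 0], [0, 1, 1, 0, 0, 1, 1, 0], [0, 0, 0, 1, 0, 1, 1, 0], [1, 0, 0, 1, 0, 1,
   1, 0], [1, 1, 0, 1, 0, 1, 1, 0], [1, 0, 1, 1, 0, 1, 1, 0], [1, 0, 0, 1, 0, 0, 0, 1], [0, 1, 0, 1, 0, 0, 0, 1],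
   [1, 1, 0, 1, 0, 0, 0, 1], [1, 0, 1, 1, 0, 0, 0, 1], [0, 0, 0, 0, 1, 0, 0, 1], [1, 0, 0, 0, 1, 0, 0, 1], [0, 1, 0,
   1, 1, 0, 0, 1], [1, 1, 0, 1, 1, 0, 0, 1], [1, 0, 0, 0, 0, 1, 0, 1], [0, 1, 0, 0, 0, 1, 0, 1], [1, 1, 0, 0, 0, 1,
   0, 1], [0, 0, 1, 0, 0, 1, 0, 1], [1, 0, 1, 0, 0, 1, 0, 1], [0, 1, 1, 0, 0, 1, 0, 1], [0, 1, 0, 0, 1, 1, 0, 1],
   [1, 1, 0, 0, 1, 1, 0, 1], [0, 0, 1, 0, 1, 1, 0, 1], [1, 0, 1, 0, 1, 1, 0, 1], [0, 1, 1, 0, 1, 1, 0, 1], [0, 0, 1,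
   0, 0, 0, 1, 1], [1, 0, 1, 0, 0, 0, 1, 1], [0, 0, 0, 1, 0, 0, 1, 1], [1, 1, 0, 1, 0, 0, 1, 1], [1, 0, 1, 1, 0, 0,
   1, 1], [1, 0, 0, 0, 1, 0, 1, 1], [0, 1, 0, 0, 1, 0, 1, 1], [1, 1, 0, 0, 1, 0, 1, 1], [1, 0, 0, 1, 1, 0, 1, 1],
   [1, 1, 0, 1, 1, 0, 1, 1], [1, 1, 0, 0, 1, 0, 0, 0, 0], [0, 0, 1, 0, 1, 0, 0, 0, 0], [0, 1, 0, 1, 1, 0, 0, 0, 0],
   [1, 1, 0, 1, 1, 0, 0, 0, 0], [0, 1, 1, 0, 0, 1, 0, 0, 0], [0, 0, 0, 1, 0, 1, 0, 0, 0], [1, 0, 0, 1, 0, 1, 0, 0,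
   0], [0, 0, 1, 1, 0, 1, 0, 0, 0], [1, 0, 1, 1, 0, 1, 0, 0, 0], [0, 0, 1, 0, 1, 1, 0, 0, 0], [1, 0, 1, 0, 1, 1, 0,
   0, 0], [1, 1, 0, 0, 0, 0, 1, 0, 0], [1, 0, 1, 0, 0, 0, 1, 0, 0], [0, 1, 1, 0, 0, 0, 1, 0, 0], [1, 1, 0, 1, 0, 0,
   1, 0, 0], [1, 0, 1, 1, 0, 0, 1, 0, 0], [0, 0, 0, 0, 1, 0, 1, 0, 0], [1, 0, 0, 0, 1, 0, 1, 0, 0], [0, 1, 0, 0, 1,
   0, 1, 0, 0], [1, 1, 0, 0, 1, 0, 1, 0, 0], [1, 0, 0, 1, 1, 0, 1, 0, 0], [0, 1, 0, 1, 1, 0, 1, 0, 0], [1, 1, 0, 1,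
   1, 0, 1, 0, 0], [0, 0, 0, 1, 0, 1, 1, 0, 0], [1, 0, 0, 1, 0, 1, 1, 0, 0], [1, 1, 0, 1, 0, 1, 1, 0, 0], [1, 0, 0,
   1, 0, 0, 0, 1, 0], [0, 1, 0, 1, 0, 0, 0, 1, 0], [1, 0, 1, 1, 0, 0, 0, 1, 0], [1, 1, 0, 1, 1, 0, 0, 1, 0], [1, 0,
   0, 0, 0, 1, 0, 1, 0], [0, 1, 0, 0, 0, 1, 0, 1, 0], [1, 0, 1, 0, 0, 1, 0, 1, 0], [0, 1, 1, 0, 0, 1, 0, 1, 0], [1,
   1, 0, 0, 1, 1, 0, 1, 0], [0, 0, 1, 0, 1, 1, 0, 1, 0], [0, 0, 1, 0, 0, 0, 1, 1, 0], [1, 0, 1, 0, 0, 0, 1, 1, 0],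
   [0, 0, 0, 1, 0, 0, 1, 1, 0], [1, 1, 0, 1, 0, 0, 1, 1, 0], [1, 0, 1, 1, 0, 0, 1, 1, 0], [1, 0, 0, 0, 1, 0, 1, 1,
   0], [0, 1, 0, 0, 1, 0, 1, 1, 0], [1, 1, 0, 0, 1, 0, 1, 1, 0], [1, 1, 0, 1, 1, 0, 1, 1, 0], [0, 0, 1, 0, 1, 0, 0,
   0, 1], [0, 1, 1, 0, 1, 0, 0, 0, 1], [0, 1, 0, 1, 1, 0, 0, 0, 1], [1, 1, 0, 1, 1, 0, 0, 0, 1], [1, 0, 0, 0, 0, 1,
   0, 0, 1], [0, 1, 0, 0, 0, 1, 0, 0, 1], [1, 1, 0, 0, 0, 1, 0, 0, 1], [0, 0, 1, 0, 1, 1, 0, 0, 1], [1, 1, 0, 0, 0,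
   0, 1, 0, 1], [0, 0, 1, 0, 0, 0, 1, 0, 1], [0, 1, 1, 0, 0, 0, 1, 0, 1], [1, 1, 0, 1, 0, 0, 1, 0, 1], [1, 0, 1, 1,
   0, 0, 1, 0, 1], [0, 0, 1, 0, 0, 1, 1, 0, 1], [1, 0, 1, 0, 0, 1, 1, 0, 1], [0, 0, 0, 1, 0, 1, 1, 0, 1], [1, 0, 0,
   1, 0, 1, 1, 0, 1], [1, 1, 0, 1, 0, 1, 1, 0, 1], [1, 0, 1, 1, 0, 1, 1, 0, 1], [1, 0, 0, 1, 0, 0, 0, 1, 1], [1, 1,
   0, 1, 0, 0, 0, 1, 1], [0, 0, 0, 0, 1, 0, 0, 1, 1], [0, 1, 0, 1, 1, 0, 0, 1, 1], [1, 1, 0, 1, 1, 0, 0, 1, 1], [1,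
   1, 0, 0, 0, 1, 0, 1, 1], [0, 0, 1, 0, 0, 1, 0, 1, 1], [1, 0, 1, 0, 0, 1, 0, 1, 1], [0, 1, 1, 0, 0, 1, 0, 1, 1],
   [0, 1, 0, 0, 1, 1, 0, 1, 1], [1, 1, 0, 0, 1, 1, 0, 1, 1], [0, 0, 0, 1, 0, 1, 0, 0, 0, 0], [1, 0, 1, 0, 1, 1, 0,
   0, 0, 0], [1, 0, 1, 1, 0, 0, 1, 0, 0, 0], [0, 0, 0, 0, 1, 0, 1, 0, 0, 0], [0, 1, 0, 0, 1, 0, 1, 0, 0, 0], [1, 1,
   0, 0, 1, 0, 1, 0, 0, 0], [1, 0, 0, 1, 1, 0, 1, 0, 0, 0], [0, 1, 0, 1, 1, 0, 1, 0, 0, 0], [0, 0, 0, 1, 0, 1, 1, 0,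
   0, 0], [1, 0, 0, 1, 0, 1, 1, 0, 0, 0], [1, 1, 0, 1, 0, 1, 1, 0, 0, 0], [0, 1, 0, 1, 0, 0, 0, 1, 0, 0], [1, 0, 1,
   1, 0, 0, 0, 1, 0, 0], [1, 1, 0, 1, 1, 0, 0, 1, 0, 0], [1, 0, 1, 0, 0, 1, 0, 1, 0, 0], [0, 1, 1, 0, 0, 1, 0, 1, 0,
   0], [1, 1, 0, 0, 1, 1, 0, 1, 0, 0], [1, 0, 0, 0, 1, 0, 1, 1, 0, 0], [0, 1, 0, 0, 1, 0, 1, 1, 0, 0], [1, 1, 0, 0,
   1, 0, 1, 1, 0, 0], [0, 1, 0, 1, 1, 0, 0, 0, 1, 0], [1, 1, 0, 1, 1, 0, 0, 0, 1, 0], [0, 0, 1, 0, 0, 0, 1, 0, 1,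
   0], [1, 1, 0, 1, 0, 0, 1, 0, 1, 0], [0, 0, 0, 1, 0, 1, 1, 0, 1, 0], [1, 0, 0, 1, 0, 1, 1, 0, 1, 0], [1, 0, 0, 1,
   0, 0, 0, 1, 1, 0], [1, 1, 0, 1, 0, 0, 0, 1, 1, 0], [1, 1, 0, 1, 1, 0, 0, 1, 1, 0], [0, 0, 1, 0, 0, 1, 0, 1, 1,
   0], [1, 0, 1, 0, 0, 1, 0, 1, 1, 0], [0, 1, 1, 0, 0, 1, 0, 1, 1, 0], [1, 0, 0, 1, 0, 1, 0, 0, 0, 1], [0, 0, 1, 0,
   1, 1, 0, 0, 0, 1], [1, 0, 1, 0, 0, 0, 1, 0, 0, 1], [0, 1, 1, 0, 0, 0, 1, 0, 0, 1], [0, 0, 0, 1, 0, 1, 1, 0, 0,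
   1], [1, 0, 0, 1, 0, 1, 1, 0, 0, 1], [1, 0, 0, 1, 0, 0, 0, 1, 0, 1], [1, 0, 1, 1, 0, 0, 0, 1, 0, 1], [1, 1, 0, 1,
   1, 0, 0, 1, 0, 1], [0, 0, 0, 1, 0, 0, 1, 1, 0, 1], [1, 1, 0, 1, 0, 0, 1, 1, 0, 1], [0, 1, 0, 0, 1, 0, 1, 1, 0,
   1], [1, 1, 0, 1, 1, 0, 1, 1, 0, 1], [1, 0, 0, 0, 0, 1, 0, 0, 1, 1], [0, 0, 1, 0, 1, 1, 0, 0, 1, 1], [1, 0, 1, 1,
   0, 0, 1, 0, 1, 1], [0, 0, 1, 0, 0, 1, 1, 0, 1, 1], [1, 0, 1, 0, 0, 1, 1, 0, 1, 1], [0, 0, 0, 0, 1, 0, 1, 0, 0, 0,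
   0], [1, 1, 0, 1, 0, 1, 1, 0, 0, 0, 0], [1, 1, 0, 1, 1, 0, 0, 1, 0, 0, 0], [0, 1, 1, 0, 0, 1, 0, 1, 0, 0, 0], [1,
   1, 0, 0, 1, 1, 0, 1, 0, 0, 0], [0, 1, 0, 0, 1, 0, 1, 1, 0, 0, 0], [0, 1, 0, 1, 1, 0, 0, 0, 1, 0, 0], [0, 0, 1, 0,
   0, 1, 0, 1, 1, 0, 0], [0, 1, 1, 0, 0, 1, 0, 1, 1, 0, 0], [1, 0, 0, 1, 0, 0, 0, 1, 0, 1, 0], [0, 1, 0, 0, 1, 0, 1,
   1, 0, 1, 0], [0, 0, 0, 1, 0, 1, 1, 0, 0, 0, 1], [1, 1, 0, 0, 1, 0, 1, 1, 0, 0, 1], [1, 0, 1, 0, 0, 1, 0, 1, 1, 0,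
   1], [1, 1, 0, 1, 1, 0, 0, 1, 0, 1, 1], [1, 1, 0, 1, 0, 0, 1, 1, 0, 1, 1], [0, 0, 1, 0, 0, 1, 0, 1, 1, 0, 0, 0],
   [1, 0, 1, 0, 0, 1, 0, 1, 1, 0, 1, 0]]

def rp : List (List (ℕ × ℕ)) :=
  [[], [(0, 2), (1, 3)], [(0, 1), (1, 2), (2, 3), (4, 5)], [(0, 1), (1, 2)], [(0, 1), (1, 2), (3, 4), (4, 5)]]

def g10 : List (List (ℕ × ℕ)) :=
  [[(0, 1), (1, 3), (2, 4), (3, 4)], [(0, 2), (1, 3)]]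

def g8 : List (List (ℕ × ℕ)) :=
  [[(0, 1), (1, 2), (2, 3), (4, 5)], [(0, 2), (4, 5)]]

def e8 : List (List ℕ) :=
  [[], [0], [1], [0, 0], [1, 0], [0, 1], [0, 0, 0], [1, 0, 0]]

def d8 : List (ℕ × List (ℕ × ℕ)) :=
  [(0, []), (2, []), (1, [(1, 5), (3, 4)]), (1, []), (1, [(1, 3), (2, 3)]), (1, [(1, 2), (2, 3)]), (2, [(0, 1), (2,
   3)]), (1, [(0, 4), (2, 5)])]

def g36 : List (List (ℕ × ℕ)) :=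
  [[(0, 1), (1, 2)], [(0, 3), (1, 4), (2, 5), (3, 4)]]

def e36 : List (List ℕ) :=
  [[], [0], [1], [0, 0], [1, 0], [0, 1], [1, 1], [1, 0, 0], [0, 1, 0], [1, 1, 0], [0, 0, 1], [1, 0, 1], [0, 1, 1],
   [1, 1, 1], [0, 1, 0, 0], [0, 0, 1, 0], [1, 0, 1, 0], [1, 1, 1, 0], [1, 0, 0, 1], [0, 1, 0, 1], [1, 1, 0, 1], [1,
   0, 1, 1], [0, 1, 1, 1], [0, 0, 1, 0, 0], [1, 0, 0, 1, 0], [1, 1, 0, 1, 0], [0, 1, 1, 1, 0], [0, 1, 0, 0, 1], [1,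
   0, 1, 0, 1], [1, 1, 1, 0, 1], [0, 1, 0, 1, 1], [1, 0, 1, 1, 1], [1, 1, 1, 0, 1, 0], [1, 0, 1, 1, 1, 0], [1, 1, 0,
   1, 0, 1], [1, 0, 1, 0, 1, 1]]

def d36 : List (ℕ × List (ℕ × ℕ)) :=
  [(0, []), (3, []), (2, [(0, 3), (2, 4)]), (3, [(0, 1), (4, 5)]), (2, [(0, 1), (1, 5)]), (2, [(1, 3), (3, 5)]), (1,
   [(0, 3), (2, 4)]), (2, [(1, 5), (3, 4)]), (2, [(0, 5), (1, 5), (2, 4), (3, 5)]), (1, [(0, 1), (1, 4)]), (2, [(0,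
   1), (1, 4), (3, 5), (4, 5)]), (1, [(1, 5), (2, 5)]), (1, [(0, 2), (1, 4)]), (2, [(1, 4), (2, 4)]), (2, [(0, 4),
   (2, 3)]), (2, [(1, 4), (4, 5)]), (1, [(0, 1), (1, 5)]), (2, [(0, 4), (2, 5), (3, 5), (4, 5)]), (1, [(0, 5), (1,
   5), (2, 4), (3, 5)]), (1, [(1, 3), (3, 5)]), (2, [(0, 5), (2, 3)]), (2, [(1, 5), (4, 5)]), (2, [(1, 4), (3, 5)]),
   (2, [(1, 5), (2, 5)]), (1, [(0, 4), (2, 5), (3, 5), (4, 5)]), (2, [(0, 2), (1, 4)]), (2, [(0, 3), (2, 5)]), (1,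
   [(1, 5), (3, 4)]), (2, [(0, 4), (1, 4), (2, 5), (3, 4)]), (3, [(0, 3), (1, 5), (2, 4), (3, 5)]), (2, [(0, 1), (1,
   4)]), (3, [(0, 3), (1, 4), (2, 5), (4, 5)]), (4, [(0, 3), (1, 5), (2, 4), (3, 5)]), (4, []), (4, [(0, 1), (4,
   5)]), (4, [(0, 3), (1, 4), (2, 5), (4, 5)])]

def R1 : List (List (ℕ × ℕ)) :=
  [[], [(3, 4), (4, 5)], [(3, 5), (4, 5)], [(2, 3), (4, 5)], [(2, 3), (3, 4)], [(2, 3), (3, 5)], [(2, 4), (3, 4)],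
   [(2, 4), (4, 5)], [(2, 4), (3, 5)], [(2, 5), (3, 5)], [(2, 5), (4, 5)], [(2, 5), (3, 4)], [(1, 2), (4, 5)], [(1,
   2), (3, 4)], [(1, 2), (3, 5)], [(1, 2), (2, 3)], [(1, 2), (2, 5)], [(1, 3), (2, 3)], [(1, 3), (4, 5)], [(1, 3),
   (3, 5)], [(1, 3), (2, 5)], [(1, 4), (4, 5)], [(1, 5), (2, 5)], [(1, 5), (3, 5)], [(1, 5), (3, 4)], [(1, 5), (2,
   4)], [(0, 1), (1, 5)], [(0, 2), (2, 5)], [(0, 3), (3, 5)], [(0, 4), (4, 5)], [(0, 5), (2, 3)], [(1, 2), (2, 4),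
   (3, 4), (4, 5)], [(1, 2), (2, 4), (3, 5), (4, 5)], [(1, 2), (2, 5), (3, 5), (4, 5)], [(1, 3), (2, 3), (3, 4), (4,
   5)], [(0, 1), (1, 2), (2, 3), (3, 5)]]

def tab1 : List (List ℕ) :=
  [[6, 33, 35, 30, 15, 9, 17, 23, 18, 3, 27, 31, 28, 13, 10, 0, 7, 4, 26, 11, 1, 5, 8, 2, 34, 20, 32, 24, 19, 25,
   21, 12, 22, 29, 14, 16], [1, 2, 0, 6, 8, 7, 9, 11, 10, 3, 4, 5, 13, 14, 12, 31, 25, 23, 17, 21, 22, 24, 34, 18,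
   19, 32, 28, 35, 29, 26, 27, 33, 16, 15, 20, 30], [33, 35, 6, 17, 18, 23, 3, 31, 27, 30, 15, 9, 13, 10, 28, 12,
   20, 2, 4, 5, 8, 34, 14, 26, 11, 22, 19, 16, 25, 32, 24, 29, 7, 0, 1, 21], [18, 23, 17, 6, 33, 35, 3, 27, 31, 9,
   15, 30, 13, 12, 14, 10, 32, 2, 0, 21, 29, 19, 28, 1, 24, 25, 34, 7, 22, 20, 11, 8, 16, 4, 26, 5]]

def wit1 : List (List (List ℕ)) :=
  [[[0], [1, 0], [], [0], [1, 0], [0], [1], [0, 0], [0, 0], [0], [1, 0, 0], [1, 0], [1, 0, 0], [0, 0, 0], [0], [0],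
   [0], [0], [0, 0, 1], [0], [0], [1, 0, 0], [0], [0], [0, 0, 0], [0, 0], [0], [0, 1], [0, 1], [0, 0, 1], [0, 1],
   [1], [1], [0], [0, 0, 0], [0]], [[], [], [], [], [], [], [], [], [], [], [], [], [], [], [], [], [0, 0, 1], [0,
   0, 1], [0, 0, 1], [], [0, 0, 1], [], [], [], [], [0, 0, 1], [1, 0, 0], [1, 0, 0], [], [1, 0, 0], [1, 0], [], [],
   [], [0, 0, 1], [0]], [[1, 0], [], [0], [1], [0, 0], [0, 0], [0], [1, 0], [1, 0, 0], [0], [1, 0], [0], [0, 0, 0],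
   [0], [1, 0, 0], [1], [1, 0], [1, 0, 0], [1, 0, 0], [1, 0, 0], [1, 0, 0], [0, 0, 0], [0, 0, 0], [0, 0, 1], [0],
   [0, 0, 0], [0, 0, 0], [1, 0], [0, 0, 1], [1, 0], [0, 0], [0], [0], [0], [1, 0, 0], [1]], [[1], [1], [0, 0], [1,
   0], [0], [1, 0, 0], [1, 0], [], [0], [1, 0], [0], [1, 0], [1, 0, 0], [1, 0, 0], [1, 0, 0], [1, 0, 1], [1, 0, 0],
   [0, 0, 0], [1], [1], [1], [1], [0, 0, 0], [1], [1], [0, 1], [1], [], [0, 0], [1], [1, 0], [1, 0, 1], [1, 0, 0],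
   [1, 0, 1], [1], [1, 0, 0]]]

def R2 : List (List (ℕ × ℕ)) :=
  [[], [(2, 3), (4, 5)], [(2, 4), (3, 4)], [(2, 5), (3, 5)], [(1, 2), (2, 3)], [(1, 2), (2, 4)], [(1, 2), (2, 5)],
   [(1, 3), (2, 4)], [(1, 3), (2, 5)], [(1, 4), (2, 5)]]

def tab2 : List (List ℕ) :=
  [[9, 8, 0, 7, 6, 1, 5, 2, 4, 3], [0, 2, 3, 1, 5, 6, 4, 9, 7, 8], [9, 0, 7, 8, 1, 5, 6, 3, 2, 4], [0, 9, 7, 8, 4,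
   6, 5, 2, 3, 1]]

def wit2 : List (List (List ℕ)) :=
  [[[1, 0], [0, 1, 1, 1, 0], [0], [1], [1, 0, 0], [1, 1, 1, 0, 1, 0], [1, 1, 0, 1], [0], [1], [1, 1]], [[1, 0, 1, 1,
   1], [], [], [], [1, 0, 1, 1, 1], [1, 0, 1, 1, 1], [1, 0, 1, 1, 1], [1, 0, 1, 1, 1], [1, 0, 0, 1, 0], [1, 1, 0]],
   [[0, 0, 1, 0], [0], [1], [0, 1, 1, 1, 0], [0], [1, 1, 1], [0, 0, 1, 0, 0], [1, 0, 0, 1], [1, 0, 0, 1], [1, 1, 1,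
   0]], [[0, 1, 0, 0, 1], [1, 0, 1, 1], [1, 1, 1], [0, 0, 1, 0, 0], [1, 0, 0, 1], [1, 0, 0, 1], [1, 0, 0, 1], [1],
   [0, 1, 1, 1, 0], [0, 1]]]

def LA : List (ℕ × ℕ) :=
  [(1, 14), (1, 22), (1, 25), (1, 28)]

def LB : List (ℕ × ℕ) :=
  [(1, 5), (1, 6)]

def XA : List (ℕ × List ℕ) :=
  [(2, []), (4, [0, 0, 0, 2, 0]), (2, [2, 2, 0, 0]), (2, [2, 2, 0, 2]), (4, [3, 0, 3, 0]), (2, [0, 2, 2, 0, 0, 3]),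
   (2, [0, 0, 2, 2, 1, 2]), (2, [0, 0, 2, 2, 1, 0]), (2, [3, 0, 0, 3, 0, 2]), (2, [0, 0, 2, 0, 0]), (2, [0, 0, 3, 2,
   0, 0]), (4, [1, 3, 2, 0]), (2, [1, 3, 0, 0]), (2, [3, 1, 0, 2, 1]), (4, [0, 2, 0, 0, 0]), (2, [0, 3, 2]), (2, [1,
   2, 0, 0, 0, 0]), (2, [0, 3, 0, 3]), (2, [0, 2, 0, 2]), (4, [1, 0, 0, 3, 1])]

def XB : List (ℕ × List ℕ) :=
  [(4, []), (4, [1]), (4, [1, 1]), (4, [1, 1, 2, 2, 0, 0]), (4, [2, 2, 0, 0]), (4, [1, 2, 2, 0, 0]), (4, [0, 2, 2,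
   0, 0, 3]), (4, [0, 0, 2, 2, 1, 2]), (4, [0, 0, 2, 2, 1, 0]), (4, [3, 2, 0]), (4, [2, 0, 3]), (4, [0, 0, 3, 2, 0,
   0]), (4, [1, 3, 2, 0]), (4, [1, 3, 2, 1, 0]), (4, [2, 0, 0, 2]), (4, [3, 1, 0, 2, 1]), (4, [2, 2, 0, 0, 0]), (4,
   [0, 2, 0, 0, 0]), (4, [0, 2, 0, 2]), (4, [0, 2, 1, 2, 2]), (4, [1, 0, 0, 3, 1]), (4, [2, 2, 1, 2, 1, 0]), (4, [1,
   3, 0, 2, 1]), (4, [1, 1, 0, 3, 0, 0]), (4, [0, 0, 0, 2, 0, 0]), (4, [2, 2, 0, 0, 2, 1]), (4, [1, 2, 1, 0])]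

/-- the sum of all cosets -/
def O1 : List (ℕ × ℕ) := (List.range 36).map fun i => (1, i)

theorem cG : chkG 6 gG eG = true := by decide +kernel
theorem c8 : chkG 6 g8 e8 = true := by decide +kernel
theorem c8' : chkC 6 g8 e8 [] rp d8 = true := by decide +kernel
theorem c36 : chkG 6 g36 e36 = true := by decide +kernel
theorem c36' : chkC 6 g36 e36 [] rp d36 = true := by decide +kernel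
theorem cF1 : chkF 6 gs g10 R1 tab1 wit1 = true := by decide +kernel
theorem cF2 : chkF 6 gs g36 R2 tab2 wit2 = true := by decide +kernel

variable {F : Type*} [Field F] {W : Type*} [AddCommGroup W] [Module F W]
  {ρ : Representation F ↥(alternatingGroup (Fin 6)) W}

theorem Tg_top : Tg 6 gG = ⊤ := by
  have := Fintype.ofFinite ↥(Tg 6 gG)
  have h1 := card_Tg (n := 6) le_rfl cG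
  have h2 : 2 * Nat.card ↥(alternatingGroup (Fin 6)) = 720 := by
    rw [two_mul_nat_card_alternatingGroup, Nat.card_perm, Nat.card_eq_fintype_card, Fintype.card_fin]
    rfl
  refine Subgroup.eq_top_of_card_eq _ ?_
  rw [Nat.card_eq_fintype_card, h1, show eG.length = 360 from by decide +kernel]
  omega

theorem O1_zero [CharP F 5] (h0 : ∀ v : W, (∀ a, ρ a v = v) → v = 0) {v : W} (hv : v ∈ inv ρ (Tg 6 g10)) :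
    EL ρ R1 O1 v = 0 := by
  have h1 : EL ρ R1 O1 v ∈ inv ρ (Tg 6 gG) := by
    refine mem_inv_Tg fun g hg => ?_
    have h2 : ∀ j, okX gs.length [(1, [j])] = true → eqv 5 36 (pr tab1 [(1, [j])] O1) O1 = true →
        ρ (P 6 (wd gs [j])) (EL ρ R1 O1 v) = EL ρ R1 O1 v := fun j h3 h4 => by
      rw [← XL_one, XL_EL le_rfl cF1 hv h3 (by decide +kernel), EL_eq 5 R1 h4]
    rcases List.mem_pair.1 hg with rfl | rfl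
    · exact h2 0 (by decide +kernel) (by decide +kernel)
    · exact h2 1 (by decide +kernel) (by decide +kernel)
  rw [Tg_top] at h1
  exact h0 _ fun a => h1 a (Subgroup.mem_top a)

theorem EL_base (R : List (List (ℕ × ℕ))) (h : R.getD 0 [] = []) (v : W) : EL ρ R [(1, 0)] v = v := by
  rw [EL_cons, EL_nil, add_zero, h, P_nil, map_one, Nat.cast_one, one_smul]
  rfl

theorem theta_mem [CharP F 5] {v w : W} (hv : v ∈ inv ρ (Tg 6 g10)) (hw : w ∈ inv ρ (Tg 6 g36)) :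
    EL ρ R1 LA v + EL ρ R2 LB w ∈ inv ρ (Tg 6 g8) := by
  refine mem_inv_Tg fun g hg => ?_
  have h2 : ∀ j, okX gs.length [(1, [j])] = true → eqv 5 36 (pr tab1 [(1, [j])] LA) LA = true →
      eqv 5 10 (pr tab2 [(1, [j])] LB) LB = true →
      ρ (P 6 (wd gs [j])) (EL ρ R1 LA v + EL ρ R2 LB w) = EL ρ R1 LA v + EL ρ R2 LB w := fun j h3 h4 h5 => by
    rw [← XL_one, map_add, XL_EL le_rfl cF1 hv h3 (by decide +kernel), EL_eq 5 R1 h4,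
      XL_EL le_rfl cF2 hw h3 (by decide +kernel), EL_eq 5 R2 h5]
  rcases List.mem_pair.1 hg with rfl | rfl
  · exact h2 2 (by decide +kernel) (by decide +kernel) (by decide +kernel)
  · exact h2 3 (by decide +kernel) (by decide +kernel) (by decide +kernel)

theorem theta_inj [CharP F 5] (h0 : ∀ v : W, (∀ a, ρ a v = v) → v = 0) {v w : W} (hv : v ∈ inv ρ (Tg 6 g10))
    (hw : w ∈ inv ρ (Tg 6 g36)) (h : EL ρ R1 LA v + EL ρ R2 LB w = 0) : v = 0 ∧ w = 0 := by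
  have h1 := O1_zero h0 hv
  have h2 : ∀ X, okX gs.length X = true → EL ρ R1 (pr tab1 X LA) v + EL ρ R2 (pr tab2 X LB) w = 0 := fun X hX => by
    rw [← XL_EL le_rfl cF1 hv hX (by decide +kernel), ← XL_EL le_rfl cF2 hw hX (by decide +kernel), ← map_add, h, map_zero]
  constructor
  · have h3 := h2 XA (by decide +kernel)
    have h4 : EL ρ R1 (pr tab1 XA LA ++ O1) v = EL ρ R1 [(1, 0)] v := EL_eq 5 R1 (N := 36) (by decide +kernel) v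
    rw [EL_eq 5 R2 (N := 10) (L' := []) (by decide +kernel), EL_nil, add_zero] at h3
    rw [EL_append, h3, h1, add_zero, EL_base R1 rfl] at h4
    exact h4.symm
  · have h3 := h2 XB (by decide +kernel)
    rwa [EL_eq 5 R1 (N := 36) (L' := O1 ++ O1) (by decide +kernel), EL_append, h1, add_zero, zero_add,
      EL_eq 5 R2 (N := 10) (L' := [(1, 0)]) (by decide +kernel), EL_base R2 rfl] at h3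

/-- **(a)** -/
theorem ineq_a [CharP F 5] [FiniteDimensional F W] (h0 : ∀ v : W, (∀ a, ρ a v = v) → v = 0) :
    finrank F ↥(inv ρ (Tg 6 g10)) + finrank F ↥(inv ρ (Tg 6 g36)) ≤ finrank F ↥(inv ρ (Tg 6 g8)) := by
  let θ : (↥(inv ρ (Tg 6 g10)) × ↥(inv ρ (Tg 6 g36))) →ₗ[F] ↥(inv ρ (Tg 6 g8)) :=
    LinearMap.codRestrict _ (LinearMap.coprod (EL ρ R1 LA ∘ₗ Submodule.subtype _) (EL ρ R2 LB ∘ₗ Submodule.subtype _))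
      fun z => theta_mem z.1.2 z.2.2
  have h1 : Function.Injective θ := by
    rw [injective_iff_map_eq_zero]
    intro z hz
    obtain ⟨h2, h3⟩ := theta_inj h0 z.1.2 z.2.2 (congrArg Subtype.val hz)
    exact Prod.ext (Subtype.ext h2) (Subtype.ext h3)
  rw [← finrank_prod]
  exact LinearMap.finrank_le_finrank_of_injective h1

theorem dim8 [Finite F] [FiniteDimensional F W] (h : ((8 : ℕ) : F) ≠ 0) : (8 : ℚ) * finrank F ↥(inv ρ (Tg 6 g8)) =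
    om ρ (P 6 []) + 5 * om ρ (P 6 (rp.getD 1 [])) + 2 * om ρ (P 6 (rp.getD 2 [])) := by
  have h1 := dimC (n := 6) le_rfl c8 c8' (N := 8) (K := 5) rfl rfl h (c := [1, 5, 2, 0, 0]) (by decide +kernel) ρ
  simp only [Finset.sum_range_succ, Finset.sum_range_zero] at h1
  have e0 : rp.getD 0 [] = [] := rfl
  rw [e0] at h1
  norm_num at h1 ⊢
  linarith

theorem dim36 [Finite F] [FiniteDimensional F W] (h : ((36 : ℕ) : F) ≠ 0) : (36 : ℚ) * finrank F ↥(inv ρ (Tg 6 g36)) =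
    om ρ (P 6 []) + 9 * om ρ (P 6 (rp.getD 1 [])) + 18 * om ρ (P 6 (rp.getD 2 [])) + 4 * om ρ (P 6 (rp.getD 3 [])) +
      4 * om ρ (P 6 (rp.getD 4 [])) := by
  have h1 := dimC (n := 6) le_rfl c36 c36' (N := 36) (K := 5) rfl rfl h (c := [1, 9, 18, 4, 4]) (by decide +kernel) ρ
  simp only [Finset.sum_range_succ, Finset.sum_range_zero] at h1
  have e0 : rp.getD 0 [] = [] := rfl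
  rw [e0] at h1
  norm_num at h1 ⊢
  linarith

end Cfsg.Agent.E8A.C65
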